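import Mathlib

set_option autoImplicit false

namespace Cfsg.Agent.Lib.Helper21

/-- `zpowers g` is a `p`-group when `g` has `p`-power order. -/
theorem isPGroup_zpowers {G : Type*} [Group G] {p : ℕ} {g : G} {k : ℕ}
    (hg : orderOf g = p ^ k) : IsPGroup p (Subgroup.zpowers g) := by
  intro x
  obtain ⟨x, hx⟩ := x
  obtain ⟨n, rfl⟩ := Subgroup.mem_zpowers_iff.mp hx
  refine ⟨k, ?_⟩
  ext
  simp only [Subgroup.coe_pow, Subgroup.coe_one]
  rw [← zpow_natCast, ← zpow_mul, mul_comm, zpow_mul, zpow_natCast, ← hg, pow_orderOf_eq_one, one_zpow]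

/-- A `p`-subgroup lies in a normal Sylow `p`-subgroup. -/
theorem le_sylow_of_sylow_normal {G : Type*} [Group G] [Finite G] {p : ℕ} [Fact p.Prime]
    (P : Sylow p G) (hP : (P : Subgroup G).Normal) {H : Subgroup G} (hH : IsPGroup p H) :
    H ≤ (P : Subgroup G) := by
  obtain ⟨Q, hQ⟩ := hH.exists_le_sylow
  obtain ⟨x, hx⟩ := MulAction.exists_smul_eq G P Q
  have : x • P = P := Sylow.smul_eq_of_normal
  rw [this] at hx
  rw [hx]; exact hQ

/-- An element of `p`-power order lies in a normal Sylow `p`-subgroup. -/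
theorem mem_sylow_of_normal {G : Type*} [Group G] [Finite G] {p : ℕ} [Fact p.Prime]
    (P : Sylow p G) (hP : (P : Subgroup G).Normal) {g : G} {k : ℕ} (hg : orderOf g = p ^ k) :
    g ∈ (P : Subgroup G) :=
  le_sylow_of_sylow_normal P hP (isPGroup_zpowers hg) (Subgroup.mem_zpowers g)

/-- Elements of a Sylow `p`-subgroup have `p`-power order. -/
theorem orderOf_of_mem_sylow {G : Type*} [Group G] {p : ℕ} [Fact p.Prime]
    (P : Sylow p G) {g : G} (hg : g ∈ (P : Subgroup G)) : ∃ k : ℕ, orderOf g = p ^ k := by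
  obtain ⟨k, hk⟩ := (IsPGroup.iff_orderOf.mp P.isPGroup') ⟨g, hg⟩
  exact ⟨k, by rw [← hk, Subgroup.orderOf_mk]⟩

/-- Elements of a `p`-subgroup have `p`-power order. -/
theorem orderOf_of_mem_isPGroup {G : Type*} [Group G] {p : ℕ} [Fact p.Prime]
    {P : Subgroup G} (hP : IsPGroup p P) {g : G} (hg : g ∈ P) : ∃ k : ℕ, orderOf g = p ^ k := by
  obtain ⟨k, hk⟩ := (IsPGroup.iff_orderOf.mp hP) ⟨g, hg⟩
  exact ⟨k, by rw [← hk, Subgroup.orderOf_mk]⟩

/-- Same order type gives an order preserving bijection. -/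
theorem exists_orderOf_equiv {G H : Type*} [Group G] [Finite G] [Group H] [Finite H]
    (hT : ∀ m : ℕ, Nat.card {g : G // orderOf g = m} = Nat.card {h : H // orderOf h = m}) :
    ∃ e : G ≃ H, ∀ g, orderOf (e g) = orderOf g := by
  have hne : ∀ m : ℕ, Nonempty ({g : G // orderOf g = m} ≃ {h : H // orderOf h = m}) := by
    intro m
    have e1 := Finite.equivFin {g : G // orderOf g = m}
    have e2 := Finite.equivFin {h : H // orderOf h = m}
    exact ⟨e1.trans ((finCongr (hT m)).trans e2.symm)⟩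
  let em : ∀ m : ℕ, {g : G // orderOf g = m} ≃ {h : H // orderOf h = m} :=
    fun m => (hne m).some
  refine ⟨(Equiv.sigmaFiberEquiv (orderOf : G → ℕ)).symm.trans
    ((Equiv.sigmaCongrRight em).trans (Equiv.sigmaFiberEquiv (orderOf : H → ℕ))), ?_⟩
  intro g
  exact ((em (orderOf g)) ⟨g, rfl⟩).2

/-- A Sylow subgroup that contains all elements of `p`-power order is normal. -/
theorem sylow_normal_of_forall_mem {G : Type*} [Group G] {p : ℕ} [Fact p.Prime]
    (P : Sylow p G) (h : ∀ g : G, (∃ k : ℕ, orderOf g = p ^ k) → g ∈ (P : Subgroup G)) :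
    (P : Subgroup G).Normal := by
  constructor
  intro n hn g
  apply h
  obtain ⟨k, hk⟩ := orderOf_of_mem_sylow P hn
  refine ⟨k, ?_⟩
  rw [← hk]
  have : g * n * g⁻¹ = MulAut.conj g n := rfl
  rw [this, MulEquiv.orderOf_eq]

end Cfsg.Agent.Lib.Helper21
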