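import Mathlib
import Cfsg.Agent.Lib.Helper21.Basic

set_option autoImplicit false

namespace Cfsg.Agent.Lib.Helper21

theorem index_centralizer_eq_ncard_carrier {G : Type*} [Group G] (x : G) :
    (Subgroup.centralizer ({x} : Set G)).index = (ConjClasses.mk x).carrier.ncard := by
  have h1 : (Subgroup.comap (ConjAct.toConjAct (G := G)).toMonoidHom
      (MulAction.stabilizer (ConjAct G) x)).index = (MulAction.stabilizer (ConjAct G) x).index :=
    Subgroup.index_comap_of_surjective _ (ConjAct.toConjAct (G := G)).surjective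
  rw [Subgroup.centralizer_eq_comap_stabilizer]
  refine h1.trans ?_
  rw [MulAction.index_stabilizer, ConjAct.orbit_eq_carrier_conjClasses]

theorem mem_carrier_mk_iff {G : Type*} [Group G] (x a : G) :
    a ∈ (ConjClasses.mk x).carrier ↔ ∃ c : G, c * x * c⁻¹ = a := by
  rw [ConjClasses.mem_carrier_iff_mk_eq, ConjClasses.mk_eq_mk_iff_isConj, isConj_comm, isConj_iff]

/-- If the class of `x * y` is as large as the product of the classes of `x` and `y`, then `x`, `y` commute. -/
theorem commute_of_index_mul {G : Type*} [Group G] [Finite G] (x y : G)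
    (h : (Subgroup.centralizer ({x * y} : Set G)).index =
      (Subgroup.centralizer ({x} : Set G)).index * (Subgroup.centralizer ({y} : Set G)).index) :
    x * y = y * x := by
  rw [index_centralizer_eq_ncard_carrier, index_centralizer_eq_ncard_carrier,
    index_centralizer_eq_ncard_carrier] at h
  set X := (ConjClasses.mk x).carrier with hX
  set Y := (ConjClasses.mk y).carrier with hY
  set Z := (ConjClasses.mk (x * y)).carrier with hZ
  let f : G × G → G := fun ab => ab.1 * ab.2
  have hsub : Z ⊆ f '' (X ×ˢ Y) := by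
    intro z hz
    obtain ⟨c, rfl⟩ := (mem_carrier_mk_iff _ _).mp hz
    refine ⟨(c * x * c⁻¹, c * y * c⁻¹), ⟨(mem_carrier_mk_iff _ _).mpr ⟨c, rfl⟩,
      (mem_carrier_mk_iff _ _).mpr ⟨c, rfl⟩⟩, ?_⟩
    simp only [f]
    group
  have h1 : Z.ncard ≤ (f '' (X ×ˢ Y)).ncard := Set.ncard_le_ncard hsub (Set.toFinite _)
  have h2 : (f '' (X ×ˢ Y)).ncard ≤ (X ×ˢ Y).ncard := Set.ncard_image_le (Set.toFinite _)
  have h3 : (X ×ˢ Y).ncard = X.ncard * Y.ncard := Set.ncard_prod
  have hinj : Set.InjOn f (X ×ˢ Y) := by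
    apply Set.injOn_of_ncard_image_eq _ (Set.toFinite _)
    omega
  have m1 : (x, y) ∈ X ×ˢ Y :=
    ⟨(mem_carrier_mk_iff _ _).mpr ⟨1, by simp⟩, (mem_carrier_mk_iff _ _).mpr ⟨1, by simp⟩⟩
  have m2 : ((x * y) * x * (x * y)⁻¹, (x * y) * y * (x * y)⁻¹) ∈ X ×ˢ Y :=
    ⟨(mem_carrier_mk_iff _ _).mpr ⟨_, rfl⟩, (mem_carrier_mk_iff _ _).mpr ⟨_, rfl⟩⟩
  have heq : f (x, y) = f ((x * y) * x * (x * y)⁻¹, (x * y) * y * (x * y)⁻¹) := by
    simp only [f]
    group
  have := hinj m1 m2 heq
  have hx : x = (x * y) * x * (x * y)⁻¹ := congrArg Prod.fst this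
  have : x * (x * y) = (x * y) * x := eq_mul_inv_iff_mul_eq.mp hx
  have h5 : x * (x * y) = x * (y * x) := by rw [this]; group
  exact mul_left_cancel h5

/-- index of an intersection for coprime indices -/
theorem index_inf_of_coprime {G : Type*} [Group G] [Finite G] (H K : Subgroup G)
    (h : Nat.Coprime H.index K.index) : (H ⊓ K).index = H.index * K.index := by
  apply le_antisymm Subgroup.index_inf_le
  apply Nat.le_of_dvd (Nat.pos_of_ne_zero Subgroup.index_ne_zero_of_finite)
  exact Nat.Coprime.mul_dvd_of_dvd_of_dvd h (Subgroup.index_dvd_of_le inf_le_left)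
    (Subgroup.index_dvd_of_le inf_le_right)

end Cfsg.Agent.Lib.Helper21
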