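import Mathlib
import Cfsg.Agent.Lib.Helper21.Basic

set_option autoImplicit false

namespace Cfsg.Agent.Lib.Helper21

/-- If `x` commutes with all elements of prime power order for primes `≠ p`, it commutes with all
elements of order prime to `p`. -/
theorem commute_of_forall_prime_pow {G : Type*} [Group G] [Finite G] (p : ℕ) (x : G)
    (h : ∀ (y : G) (q b : ℕ), q.Prime → q ≠ p → orderOf y = q ^ b → Commute x y) :
    ∀ (n : ℕ) (y : G), orderOf y = n → n.Coprime p → Commute x y := by
  intro n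
  induction n using Nat.strong_induction_on with
  | _ n ih =>
    intro y hy hcop
    have hn0 : n ≠ 0 := by rw [← hy]; exact (orderOf_pos y).ne'
    by_cases hn1 : n = 1
    · rw [hn1, orderOf_eq_one_iff] at hy
      rw [hy]; exact Commute.one_right x
    set q := n.minFac with hq
    have hqp : q.Prime := Nat.minFac_prime hn1
    obtain ⟨k, m, hqm, hnm⟩ := Nat.exists_eq_pow_mul_and_not_dvd hn0 q hqp.ne_one
    have hk0 : k ≠ 0 := by
      rintro rfl
      apply hqm
      have : q ∣ n := Nat.minFac_dvd _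
      rwa [hnm, pow_zero, one_mul] at this
    have hm0 : m ≠ 0 := by rintro rfl; exact hqm (dvd_zero q)
    have hqk0 : q ^ k ≠ 0 := pow_ne_zero _ hqp.ne_zero
    have hqnep : q ≠ p := by
      intro hqe
      have h1 : q ∣ Nat.gcd n p := Nat.dvd_gcd (Nat.minFac_dvd _) (hqe ▸ dvd_rfl)
      rw [hcop] at h1
      exact hqp.one_lt.ne' (Nat.dvd_one.mp h1)
    have o1 : orderOf (y ^ (q ^ k)) = m := by
      rw [orderOf_pow_of_dvd hqk0 (by rw [hy, hnm]; exact Dvd.intro _ rfl), hy, hnm,
        Nat.mul_div_cancel_left _ (Nat.pos_of_ne_zero hqk0)]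
    have o2 : orderOf (y ^ m) = q ^ k := by
      rw [orderOf_pow_of_dvd hm0 (by rw [hy, hnm]; exact Dvd.intro_left _ rfl), hy, hnm,
        Nat.mul_div_cancel _ (Nat.pos_of_ne_zero hm0)]
    have hmn : m < n := by
      rw [hnm]
      have : 2 ≤ q ^ k := le_trans hqp.two_le (Nat.le_self_pow hk0 q)
      nlinarith [Nat.pos_of_ne_zero hm0]
    have c1 : Commute x (y ^ (q ^ k)) :=
      ih m hmn _ o1 (Nat.Coprime.coprime_dvd_left (hnm ▸ Dvd.intro_left _ rfl) hcop)
    have c2 : Commute x (y ^ m) := h _ q k hqp hqnep o2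
    have hc : Nat.Coprime (q ^ k) m :=
      Nat.Coprime.pow_left k ((Nat.Prime.coprime_iff_not_dvd hqp).mpr hqm)
    have hb := Nat.gcd_eq_gcd_ab (q ^ k) m
    rw [hc] at hb
    have hy' : y = (y ^ (q ^ k)) ^ (Nat.gcdA (q ^ k) m) * (y ^ m) ^ (Nat.gcdB (q ^ k) m) := by
      rw [← zpow_natCast y (q ^ k), ← zpow_natCast y m, ← zpow_mul, ← zpow_mul, ← zpow_add, ← hb]
      simp
    rw [hy']
    exact (c1.zpow_right _).mul_right (c2.zpow_right _)

/-- If all `p`-elements commute with all `q`-elements (`q ≠ p`), the Sylow `p`-subgroup is a direct factor. -/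
theorem direct_factor_of_commute {G : Type*} [Group G] [Finite G] (p : ℕ) [Fact p.Prime]
    (h : ∀ x y : G, (∃ a : ℕ, orderOf x = p ^ a) → (∃ q b : ℕ, q.Prime ∧ q ≠ p ∧ orderOf y = q ^ b) →
      x * y = y * x) (P : Sylow p G) :
    (P : Subgroup G).Normal ∧ ∃ K : Subgroup G, K.Normal ∧ ¬ p ∣ Nat.card K ∧
      (P : Subgroup G) ⊓ K = ⊥ ∧ (P : Subgroup G) ⊔ K = ⊤ := by
  have hp : p.Prime := Fact.out
  have hPn : (P : Subgroup G).Normal := by
    rw [← Subgroup.normalizer_eq_top_iff, ← Subgroup.index_eq_one, Nat.eq_one_iff_not_exists_prime_dvd]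
    intro q hq hdvd
    by_cases hqp : q = p
    · subst hqp
      exact P.not_dvd_index (hdvd.trans (Subgroup.index_dvd_of_le Subgroup.le_normalizer))
    · haveI := Fact.mk hq
      obtain ⟨Q⟩ : Nonempty (Sylow q G) := inferInstance
      have hQ : (Q : Subgroup G) ≤ Subgroup.normalizer ((P : Subgroup G) : Set G) := by
        refine le_trans ?_ (Subgroup.centralizer_le_normalizer _)
        intro y hy
        rw [Subgroup.mem_centralizer_iff]
        intro x hx
        obtain ⟨b, hb⟩ := orderOf_of_mem_sylow Q hy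
        exact h x y (orderOf_of_mem_sylow P hx) ⟨q, b, hq, hqp, hb⟩
      exact Q.not_dvd_index (hdvd.trans (Subgroup.index_dvd_of_le hQ))
  refine ⟨hPn, ?_⟩
  have hcop : Nat.Coprime (Nat.card (P : Subgroup G)) (P : Subgroup G).index := by
    obtain ⟨n, hn⟩ := IsPGroup.iff_card.mp P.isPGroup'
    rw [hn]
    exact Nat.Coprime.pow_left n ((Nat.Prime.coprime_iff_not_dvd hp).mpr P.not_dvd_index)
  obtain ⟨K, hK⟩ := Subgroup.exists_right_complement'_of_coprime hcop
  have hKcard : Nat.card K = (P : Subgroup G).index := hK.symm.index_eq_card.symm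
  have hpK : ¬ p ∣ Nat.card K := by rw [hKcard]; exact P.not_dvd_index
  have hcent : (P : Subgroup G) ≤ Subgroup.centralizer (K : Set G) := by
    intro x hx
    rw [Subgroup.mem_centralizer_iff]
    intro y hy
    have hyo : (orderOf y).Coprime p := by
      rw [Nat.coprime_comm, Nat.Prime.coprime_iff_not_dvd hp]
      intro hd
      exact hpK (hd.trans (Subgroup.orderOf_dvd_natCard K hy))
    have := commute_of_forall_prime_pow p x
      (fun y q b hq hqp hb => h x y (orderOf_of_mem_sylow P hx) ⟨q, b, hq, hqp, hb⟩) _ y rfl hyo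
    exact this.eq.symm
  have hKn : K.Normal := by
    rw [← Subgroup.normalizer_eq_top_iff, eq_top_iff, ← hK.sup_eq_top]
    exact sup_le (hcent.trans (Subgroup.centralizer_le_normalizer _)) Subgroup.le_normalizer
  exact ⟨K, hKn, hpK, hK.disjoint.eq_bot, hK.sup_eq_top⟩

/-- In an internal direct product `P × K` with `P` a Sylow `p`-subgroup, elements of order prime to `p` lie in `K`. -/
theorem mem_complement_of_coprime {G : Type*} [Group G] [Finite G] (p : ℕ) [Fact p.Prime]
    (P : Sylow p G) (K : Subgroup G) [K.Normal] (hsup : (P : Subgroup G) ⊔ K = ⊤)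
    {y : G} (hy : (orderOf y).Coprime p) : y ∈ K := by
  have hy' : y ∈ (P : Subgroup G) ⊔ K := by rw [hsup]; exact Subgroup.mem_top y
  rw [Subgroup.mem_sup_of_normal_right] at hy'
  obtain ⟨a, ha, b, hb, rfl⟩ := hy'
  suffices a ∈ K from K.mul_mem this hb
  obtain ⟨k, hk⟩ := orderOf_of_mem_sylow P ha
  rw [← QuotientGroup.eq_one_iff]
  have h1 : ((a : G) : G ⧸ K) = ((a * b : G) : G ⧸ K) := by
    rw [QuotientGroup.mk_mul, (QuotientGroup.eq_one_iff b).mpr hb, mul_one]
  have h2 : orderOf ((a : G) : G ⧸ K) ∣ p ^ k := by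
    rw [← hk]
    exact orderOf_map_dvd (QuotientGroup.mk' K) a
  have h3 : orderOf ((a : G) : G ⧸ K) ∣ orderOf (a * b) := by
    rw [h1]
    exact orderOf_map_dvd (QuotientGroup.mk' K) (a * b)
  have h4 : orderOf ((a : G) : G ⧸ K) ∣ 1 := by
    have hc : Nat.Coprime (orderOf (a * b)) (p ^ k) := Nat.Coprime.pow_right k hy
    rw [← hc]
    exact Nat.dvd_gcd h3 h2
  exact orderOf_eq_one_iff.mp (Nat.dvd_one.mp h4)

end Cfsg.Agent.Lib.Helper21
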