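import Mathlib
import Cfsg.Agent.Lib.Helper21.Basic

set_option autoImplicit false

namespace Cfsg.Agent.Lib.Helper21

open MulAction in
/-- Jordan: in a transitive action of a finite group in which every element has a fixed point, there is
at most one point. -/
theorem subsingleton_of_forall_exists_fixed {G X : Type*} [Group G] [Finite G] [MulAction G X] [Finite X]
    [IsPretransitive G X] (h : ∀ g : G, ∃ x : X, g • x = x) : Subsingleton X := by
  classical
  cases nonempty_fintype G
  cases nonempty_fintype X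
  have hb := MulAction.sum_card_fixedBy_eq_card_orbits_mul_card_group G X
  have hsub : Subsingleton (Quotient (orbitRel G X)) :=
    (MulAction.pretransitive_iff_subsingleton_quotient G X).1 inferInstance
  have h1 : Fintype.card (Quotient (orbitRel G X)) ≤ 1 := Fintype.card_le_one_iff_subsingleton.mpr hsub
  have h2 : (∑ g : G, Fintype.card (fixedBy X g)) ≤ Fintype.card G := by
    rw [hb]
    calc _ ≤ 1 * Fintype.card G := Nat.mul_le_mul_right _ h1
      _ = _ := one_mul _
  have hpos : ∀ g : G, 1 ≤ Fintype.card (fixedBy X g) := by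
    intro g
    obtain ⟨x, hx⟩ := h g
    exact Fintype.card_pos_iff.mpr ⟨⟨x, hx⟩⟩
  have h3 : (∑ g : G, Fintype.card (fixedBy X g)) =
      Fintype.card G + ∑ g : G, (Fintype.card (fixedBy X g) - 1) := by
    have : ∀ g : G, Fintype.card (fixedBy X g) = 1 + (Fintype.card (fixedBy X g) - 1) := by
      intro g; have := hpos g; omega
    calc (∑ g : G, Fintype.card (fixedBy X g)) = ∑ g : G, (1 + (Fintype.card (fixedBy X g) - 1)) :=
          Finset.sum_congr rfl fun g _ => this g
      _ = _ := by rw [Finset.sum_add_distrib]; simp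
  have h4 : Fintype.card (fixedBy X (1 : G)) - 1 ≤ ∑ g : G, (Fintype.card (fixedBy X g) - 1) :=
    Finset.single_le_sum (f := fun g : G => Fintype.card (fixedBy X g) - 1) (fun _ _ => Nat.zero_le _)
      (Finset.mem_univ (1 : G))
  have h5 : Fintype.card (fixedBy X (1 : G)) = Fintype.card X := by
    apply Fintype.card_of_subtype
    intro x
    simp
  rw [← Fintype.card_le_one_iff_subsingleton]
  omega

/-- decomposition of an element into commuting `p`-part and `p'`-part -/
theorem exists_p_part {G : Type*} [Group G] [Finite G] (p : ℕ) [Fact p.Prime] (g : G) :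
    ∃ u v : G, u * v = g ∧ Commute u v ∧ (∃ k : ℕ, orderOf u = p ^ k) ∧ (orderOf v).Coprime p ∧
      u ∈ Subgroup.zpowers g ∧ v ∈ Subgroup.zpowers g := by
  have hp : p.Prime := Fact.out
  have hn0 : orderOf g ≠ 0 := (orderOf_pos g).ne'
  obtain ⟨k, m, hpm, hnm⟩ := Nat.exists_eq_pow_mul_and_not_dvd hn0 p hp.ne_one
  have hm0 : m ≠ 0 := by rintro rfl; exact hpm (dvd_zero p)
  have hpk0 : p ^ k ≠ 0 := pow_ne_zero _ hp.ne_zero
  have o1 : orderOf (g ^ (p ^ k)) = m := by
    rw [orderOf_pow_of_dvd hpk0 (by rw [hnm]; exact Dvd.intro _ rfl), hnm,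
      Nat.mul_div_cancel_left _ (Nat.pos_of_ne_zero hpk0)]
  have o2 : orderOf (g ^ m) = p ^ k := by
    rw [orderOf_pow_of_dvd hm0 (by rw [hnm]; exact Dvd.intro_left _ rfl), hnm,
      Nat.mul_div_cancel _ (Nat.pos_of_ne_zero hm0)]
  have hc : Nat.Coprime (p ^ k) m :=
    Nat.Coprime.pow_left k ((Nat.Prime.coprime_iff_not_dvd hp).mpr hpm)
  have hb := Nat.gcd_eq_gcd_ab (p ^ k) m
  rw [hc] at hb
  refine ⟨(g ^ m) ^ (Nat.gcdB (p ^ k) m), (g ^ (p ^ k)) ^ (Nat.gcdA (p ^ k) m), ?_, ?_, ?_, ?_, ?_, ?_⟩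
  · rw [← zpow_natCast g (p ^ k), ← zpow_natCast g m, ← zpow_mul, ← zpow_mul, ← zpow_add, add_comm, ← hb]
    simp
  · exact (((Commute.refl g).pow_pow _ _).zpow_zpow _ _)
  · have : orderOf ((g ^ m) ^ (Nat.gcdB (p ^ k) m)) ∣ p ^ k := by
      rw [← o2]
      exact orderOf_dvd_of_mem_zpowers (Subgroup.zpow_mem _ (Subgroup.mem_zpowers _) _)
    obtain ⟨j, _, hj⟩ := (Nat.dvd_prime_pow hp).mp this
    exact ⟨j, hj⟩
  · have : orderOf ((g ^ (p ^ k)) ^ (Nat.gcdA (p ^ k) m)) ∣ m := by
      rw [← o1]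
      exact orderOf_dvd_of_mem_zpowers (Subgroup.zpow_mem _ (Subgroup.mem_zpowers _) _)
    exact Nat.Coprime.coprime_dvd_left this
      (((Nat.Prime.coprime_iff_not_dvd hp).mpr hpm).symm)
  · exact Subgroup.zpow_mem _ (Subgroup.pow_mem _ (Subgroup.mem_zpowers _) _) _
  · exact Subgroup.zpow_mem _ (Subgroup.pow_mem _ (Subgroup.mem_zpowers _) _) _

/-- A `p`-subgroup of a subgroup `C` of index prime to `p` lies in a Sylow `p`-subgroup of `G` inside `C`. -/
theorem exists_sylow_le_of_not_dvd_index {G : Type*} [Group G] [Finite G] (p : ℕ) [Fact p.Prime]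
    (C : Subgroup G) (hC : ¬ p ∣ C.index) (U : Subgroup G) (hU : IsPGroup p U) (hUC : U ≤ C) :
    ∃ Q : Sylow p G, (Q : Subgroup G) ≤ C ∧ U ≤ (Q : Subgroup G) := by
  have hp : p.Prime := Fact.out
  have hU' : IsPGroup p (U.subgroupOf C) := hU.comap_subtype
  obtain ⟨R, hR⟩ := hU'.exists_le_sylow
  have hcard : Nat.card ((R : Subgroup C).map C.subtype) = p ^ (Nat.card G).factorization p := by
    rw [Subgroup.card_map_of_injective C.subtype_injective, Sylow.card_eq_multiplicity,
      ← C.card_mul_index, Nat.factorization_mul Nat.card_pos.ne' Subgroup.index_ne_zero_of_finite]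
    simp [Nat.factorization_eq_zero_of_not_dvd hC]
  refine ⟨Sylow.ofCard _ hcard, ?_, ?_⟩
  · rw [Sylow.coe_ofCard]
    exact Subgroup.map_subtype_le _
  · rw [Sylow.coe_ofCard]
    intro u hu
    exact ⟨⟨u, hUC hu⟩, hR (Subgroup.mem_subgroupOf.mpr hu), rfl⟩

end Cfsg.Agent.Lib.Helper21
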