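import Mathlib
import Cfsg.Agent.S0012
import Cfsg.Agent.H1.Meta7
import Cfsg.Agent.H1.CoprimeFrattini
import Cfsg.Agent.H12.Cores

set_option autoImplicit false

namespace Cfsg.Agent.Lib.Helper21

open Subgroup
open scoped commutatorElement

/-- a two-generated `p`-group has Frattini quotient of order at most `p^2` -/
theorem frattini_index_le_of_two_gen {Q : Type*} [Group Q] [Finite Q] (p : ℕ) [Fact p.Prime]
    (hQ : IsPGroup p Q) (a b : Q) (hgen : closure {a, b} = (⊤ : Subgroup Q)) :
    (frattini Q).index ≤ p ^ 2 := by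
  have hp : p.Prime := Fact.out
  obtain ⟨hcomm, hpow⟩ := Cfsg.Agent.S0012.result p hQ
  set Φ := frattini Q with hΦ
  letI instQ : CommGroup (Q ⧸ Φ) :=
    { (inferInstance : Group (Q ⧸ Φ)) with
      mul_comm := by
        intro a b
        obtain ⟨a, rfl⟩ := QuotientGroup.mk_surjective a
        obtain ⟨b, rfl⟩ := QuotientGroup.mk_surjective b
        rw [← QuotientGroup.mk_mul, ← QuotientGroup.mk_mul, QuotientGroup.eq]
        apply hcomm
        have : (a * b)⁻¹ * (b * a) = ⁅b⁻¹, a⁻¹⁆ := by
          rw [commutatorElement_def]; group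
        rw [this]
        exact Subgroup.commutator_mem_commutator (Subgroup.mem_top _) (Subgroup.mem_top _) }
  set a' : Q ⧸ Φ := QuotientGroup.mk' Φ a with ha'
  set b' : Q ⧸ Φ := QuotientGroup.mk' Φ b with hb'
  have hcl : closure {a', b'} = (⊤ : Subgroup (Q ⧸ Φ)) := by
    have h1 := congrArg (Subgroup.map (QuotientGroup.mk' Φ)) hgen
    rw [MonoidHom.map_closure, Set.image_pair,
      Subgroup.map_top_of_surjective _ (QuotientGroup.mk'_surjective Φ)] at h1
    exact h1
  have hsurj : Function.Surjective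
      (fun uv : zpowers a' × zpowers b' => ((uv.1 : Q ⧸ Φ) * (uv.2 : Q ⧸ Φ))) := by
    intro z
    have hz : z ∈ closure {a', b'} := by rw [hcl]; trivial
    obtain ⟨m, n, rfl⟩ := Subgroup.mem_closure_pair.1 hz
    exact ⟨(⟨a' ^ m, m, rfl⟩, ⟨b' ^ n, n, rfl⟩), rfl⟩
  have h1 : Nat.card (Q ⧸ Φ) ≤ Nat.card (zpowers a' × zpowers b') :=
    Nat.card_le_card_of_surjective _ hsurj
  rw [Nat.card_prod, Nat.card_zpowers, Nat.card_zpowers] at h1
  have hoa : orderOf a' ≤ p := by
    apply Nat.le_of_dvd hp.pos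
    apply orderOf_dvd_of_pow_eq_one
    rw [ha', ← map_pow]
    exact (QuotientGroup.eq_one_iff _).2 (hpow a)
  have hob : orderOf b' ≤ p := by
    apply Nat.le_of_dvd hp.pos
    apply orderOf_dvd_of_pow_eq_one
    rw [hb', ← map_pow]
    exact (QuotientGroup.eq_one_iff _).2 (hpow b)
  calc Φ.index = Nat.card (Q ⧸ Φ) := rfl
    _ ≤ orderOf a' * orderOf b' := h1
    _ ≤ p * p := Nat.mul_le_mul hoa hob
    _ = p ^ 2 := by ring

/-- fixed point congruence for an `s`-element normalizing a subgroup -/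
theorem card_modEq_inf_centralizer {G : Type*} [Group G] [Finite G] (s : ℕ) [Fact s.Prime] (k : G)
    (hk : IsPGroup s (zpowers k)) (Y : Subgroup G) (hY : k ∈ normalizer (Y : Set G)) :
    Nat.card Y ≡ Nat.card (Y ⊓ centralizer {k} : Subgroup G) [MOD s] := by
  have hT : zpowers k ≤ normalizer (Y : Set G) := zpowers_le.2 hY
  letI : MulAction (zpowers k) Y :=
    { smul := fun t y => ⟨t * y * (t : G)⁻¹, (mem_normalizer_iff.1 (hT t.2) y).1 y.2⟩
      one_smul := fun y => by
        apply Subtype.ext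
        change ((1 : zpowers k) : G) * y * ((1 : zpowers k) : G)⁻¹ = y
        simp
      mul_smul := fun a b y => by
        apply Subtype.ext
        change ((a * b : zpowers k) : G) * y * ((a * b : zpowers k) : G)⁻¹ =
          (a : G) * ((b : G) * y * (b : G)⁻¹) * (a : G)⁻¹
        simp [mul_assoc] }
  have h1 := hk.card_modEq_card_fixedPoints Y
  have h2 : Nat.card (MulAction.fixedPoints (zpowers k) Y) =
      Nat.card (Y ⊓ centralizer {k} : Subgroup G) := by
    apply Nat.card_congr
    refine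
      { toFun := fun y => ⟨y.1.1, Subgroup.mem_inf.mpr ⟨y.1.2, ?_⟩⟩
        invFun := fun y => ⟨⟨y.1, (Subgroup.mem_inf.mp y.2).1⟩, ?_⟩
        left_inv := fun y => rfl
        right_inv := fun y => rfl }
    · rw [mem_centralizer_singleton_iff]
      have := congrArg Subtype.val (y.2 ⟨k, mem_zpowers k⟩)
      change k * (y.1 : G) * k⁻¹ = y.1 at this
      rw [mul_inv_eq_iff_eq_mul] at this
      exact this.symm
    · intro t
      apply Subtype.ext
      change (t : G) * y.1 * (t : G)⁻¹ = y.1
      have hy := (Subgroup.mem_inf.mp y.2).2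
      rw [mem_centralizer_singleton_iff] at hy
      have hk' : k ∈ centralizer {(y.1 : G)} := by
        rw [mem_centralizer_singleton_iff]; exact hy.symm
      have ht := zpowers_le.2 hk' t.2
      rw [mem_centralizer_singleton_iff] at ht
      rw [ht]; group
  rw [h2] at h1
  exact h1

theorem mem_normalizer_sup {G : Type*} [Group G] {k : G} {A B : Subgroup G}
    (hA : k ∈ normalizer (A : Set G)) (hB : k ∈ normalizer (B : Set G)) :
    k ∈ normalizer ((A ⊔ B : Subgroup G) : Set G) := by
  have key : ∀ g : G, g ∈ normalizer (A : Set G) → g ∈ normalizer (B : Set G) →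
      ∀ x ∈ A ⊔ B, g * x * g⁻¹ ∈ A ⊔ B := by
    intro g hgA hgB x hx
    have : A ⊔ B ≤ (A ⊔ B).comap (MulAut.conj g).toMonoidHom := by
      apply sup_le
      · intro a ha
        exact (le_sup_left : A ≤ A ⊔ B) ((mem_normalizer_iff.1 hgA a).1 ha)
      · intro b hb
        exact (le_sup_right : B ≤ A ⊔ B) ((mem_normalizer_iff.1 hgB b).1 hb)
    exact this hx
  rw [mem_normalizer_iff]
  intro x
  constructor
  · exact key k hA hB x
  · intro hx
    have := key k⁻¹ (inv_mem hA) (inv_mem hB) _ hx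
    simpa [mul_assoc] using this

/-- an `s`-element (`s ∤ p (p^2-1)`) normalizing a `p`-group with Frattini quotient of order at most
`p^2` centralizes it -/
theorem mem_centralizer_of_frattini_index_le {G : Type*} [Group G] [Finite G] (p s : ℕ)
    [Fact p.Prime] [Fact s.Prime] (hsp : s ≠ p) (hs : ¬ s ∣ p ^ 2 - 1) (Q : Subgroup G)
    (hQ : IsPGroup p Q) (hidx : (frattini Q).index ≤ p ^ 2) (k : G)
    (hkQ : k ∈ normalizer (Q : Set G)) (hk : IsPGroup s (zpowers k)) :
    k ∈ centralizer (Q : Set G) := by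
  have hp : p.Prime := Fact.out
  have hsP : s.Prime := Fact.out
  set Φ : Subgroup G := (frattini Q).map Q.subtype with hΦ
  set C : Subgroup G := Q ⊓ centralizer {k} with hC
  set D : Subgroup G := C ⊔ Φ with hD
  have hΦQ : Φ ≤ Q := Subgroup.map_subtype_le _
  have hΦsub : Φ.subgroupOf Q = frattini Q :=
    Subgroup.comap_map_eq_self_of_injective (Subgroup.subtype_injective Q) _
  have hCQ : C ≤ Q := inf_le_left
  have hDQ : D ≤ Q := sup_le hCQ hΦQ
  have hkΦ : k ∈ normalizer (Φ : Set G) :=
    Cfsg.H1.normalizer_le_normalizer_map_of_characteristic (frattini Q) hkQ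
  have hkC : k ∈ normalizer (C : Set G) := by
    rw [mem_normalizer_iff]
    intro x
    have hx1 := mem_normalizer_iff.1 hkQ x
    rw [hC, Subgroup.mem_inf, Subgroup.mem_inf, ← hx1, mem_centralizer_singleton_iff,
      mem_centralizer_singleton_iff]
    constructor
    · rintro ⟨h1, h2⟩
      refine ⟨h1, ?_⟩
      calc k * x * k⁻¹ * k = k * x := by group
        _ = k * (k * x * k⁻¹) := by rw [← h2, mul_inv_cancel_right]; exact h2
    · rintro ⟨h1, h2⟩
      refine ⟨h1, ?_⟩
      have h3 : k * x * k⁻¹ * k = k * (k * x * k⁻¹) := h2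
      have h4 : k * x = k * (k * x * k⁻¹) := by rw [← h3]; group
      have h5 := mul_left_cancel h4
      rw [eq_mul_inv_iff_mul_eq] at h5
      exact h5
  have hkD : k ∈ normalizer (D : Set G) := mem_normalizer_sup hkC hkΦ
  have hDC : D ⊓ centralizer {k} = C := by
    apply le_antisymm
    · exact inf_le_inf_right _ hDQ
    · exact le_inf le_sup_left inf_le_right
  have h1 := card_modEq_inf_centralizer s k hk Q hkQ
  have h2 := card_modEq_inf_centralizer s k hk D hkD
  rw [hDC] at h2
  have h3 : Nat.card D ≡ Nat.card Q [MOD s] := h2.trans h1.symm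
  set j := D.relIndex Q with hj
  have hcard : Nat.card D * j = Nat.card Q := by
    have := Subgroup.relIndex_mul_relIndex ⊥ D Q bot_le hDQ
    rwa [Subgroup.relIndex_bot_left, Subgroup.relIndex_bot_left] at this
  have hjpos : 0 < j := by
    rcases Nat.eq_zero_or_pos j with h | h
    · rw [h, mul_zero] at hcard
      exact absurd hcard.symm Nat.card_pos.ne'
    · exact h
  have hjdvd : j ∣ (frattini Q).index := by
    have h4 : D.relIndex Q ∣ Φ.relIndex Q := Subgroup.relIndex_dvd_of_le_left Q le_sup_right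
    have h5 : Φ.relIndex Q = (frattini Q).index := by
      rw [Subgroup.relIndex, hΦsub]
    rwa [h5] at h4
  obtain ⟨n, hn⟩ := IsPGroup.iff_card.mp hQ
  have hj3 : j = 1 ∨ j = p ∨ j = p ^ 2 := by
    have h6 : j ∣ p ^ n := by rw [← hn, ← hcard]; exact Dvd.intro_left _ rfl
    obtain ⟨i, -, hi⟩ := (Nat.dvd_prime_pow hp).1 h6
    have h7 : j ≤ p ^ 2 := le_trans (Nat.le_of_dvd
      (Nat.pos_of_ne_zero Subgroup.index_ne_zero_of_finite) hjdvd) hidx
    rw [hi] at h7
    have h8 : i ≤ 2 := (Nat.pow_le_pow_iff_right hp.one_lt).1 h7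
    interval_cases i
    · left; simpa using hi
    · right; left; simpa using hi
    · right; right; exact hi
  have h9 : s ∣ Nat.card D * (j - 1) := by
    have h10 : Nat.card D ≤ Nat.card Q := by
      rw [← hcard]; exact Nat.le_mul_of_pos_right _ hjpos
    have h11 := (Nat.modEq_iff_dvd' h10).1 h3
    rw [← hcard] at h11
    rwa [Nat.mul_sub, mul_one]
  have hsD : ¬ s ∣ Nat.card D := by
    intro h
    have h12 : s ∣ p ^ n := by rw [← hn, ← hcard]; exact Dvd.dvd.mul_right h _
    exact hsp ((Nat.prime_dvd_prime_iff_eq hsP hp).1 (hsP.dvd_of_dvd_pow h12))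
  have h13 : s ∣ j - 1 := (hsP.dvd_mul.1 h9).resolve_left hsD
  have hj1 : j = 1 := by
    rcases hj3 with h | h | h
    · exact h
    · exfalso
      apply hs
      rw [h] at h13
      have : p ^ 2 - 1 = (p - 1) * (p + 1) := by
        obtain ⟨m, rfl⟩ : ∃ m, p = m + 1 := ⟨p - 1, (Nat.succ_pred_eq_of_pos hp.pos).symm⟩
        simp only [Nat.add_sub_cancel]
        have : (m + 1) ^ 2 = m * (m + 1 + 1) + 1 := by ring
        rw [this, Nat.add_sub_cancel]
      rw [this]
      exact Dvd.dvd.mul_right h13 _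
    · exfalso
      apply hs
      rwa [h] at h13
  have hQD : Q ≤ D := Subgroup.relIndex_eq_one.1 hj1
  have hQC : Q ≤ C := by
    have h14 : C.subgroupOf Q ⊔ frattini Q = ⊤ := by
      rw [← hΦsub, ← Subgroup.subgroupOf_sup hCQ hΦQ]
      exact Subgroup.subgroupOf_eq_top.2 hQD
    have h16 := frattini_nongenerating h14
    exact Subgroup.subgroupOf_eq_top.1 h16
  rw [mem_centralizer_iff]
  intro x hx
  have := (Subgroup.mem_inf.mp (hQC hx)).2
  rw [mem_centralizer_singleton_iff] at this
  exact this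

/-- membership for `p'`-elements reduces to elements of prime power order -/
theorem mem_of_prime_power_parts {G : Type*} [Group G] [Finite G] (H N : Subgroup G) (p : ℕ)
    (h : ∀ k ∈ N, ∀ s a : ℕ, s.Prime → s ≠ p → orderOf k = s ^ a → k ∈ H) :
    ∀ g ∈ N, (orderOf g).Coprime p → g ∈ H := by
  have key : ∀ n : ℕ, ∀ g ∈ N, orderOf g = n → n.Coprime p → g ∈ H := by
    intro n
    induction n using Nat.strong_induction_on with
    | _ n ih =>
      intro g hg hgn hcop
      by_cases hn1 : n = 1
      · rw [hn1, orderOf_eq_one_iff] at hgn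
        rw [hgn]; exact H.one_mem
      have hn0 : n ≠ 0 := by rw [← hgn]; exact (orderOf_pos g).ne'
      set s := n.minFac with hs
      have hsP : s.Prime := Nat.minFac_prime hn1
      have hsn : s ∣ n := Nat.minFac_dvd n
      have hsp : s ≠ p := by
        intro hsp
        have : s ∣ Nat.gcd n p := Nat.dvd_gcd hsn (hsp ▸ dvd_rfl)
        rw [hcop] at this
        exact hsP.one_lt.ne' (Nat.dvd_one.1 this)
      obtain ⟨a, c, hc, hac⟩ := Nat.exists_eq_pow_mul_and_not_dvd hn0 s hsP.one_lt.ne'
      have hc0 : c ≠ 0 := by rintro rfl; simp at hc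
      have ha0 : a ≠ 0 := by
        rintro rfl
        rw [pow_zero, one_mul] at hac
        exact hc (hac ▸ hsn)
      have ho1 : orderOf (g ^ c) = s ^ a := by
        rw [orderOf_pow' g hc0, hgn, hac, Nat.gcd_eq_right (Dvd.intro_left _ rfl)]
        exact Nat.mul_div_cancel _ (Nat.pos_of_ne_zero hc0)
      have ho2 : orderOf (g ^ s ^ a) = c := by
        rw [orderOf_pow' g (pow_ne_zero a hsP.ne_zero), hgn, hac, Nat.gcd_eq_right (Dvd.intro _ rfl)]
        exact Nat.mul_div_cancel_left c (pow_pos hsP.pos a)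
      have h1 : g ^ c ∈ H := h _ (N.pow_mem hg c) s a hsP hsp ho1
      have hcn : c < n := by
        rw [hac]
        have : 1 < s ^ a := Nat.one_lt_pow ha0 hsP.one_lt
        exact (Nat.lt_mul_iff_one_lt_left (Nat.pos_of_ne_zero hc0)).2 this
      have h2 : g ^ s ^ a ∈ H := ih c hcn _ (N.pow_mem hg _) ho2
        (Nat.Coprime.coprime_dvd_left (hac ▸ Dvd.intro_left _ rfl) hcop)
      have hgcd : Nat.gcd c (s ^ a) = 1 :=
        (Nat.Coprime.pow_right a ((Nat.Prime.coprime_iff_not_dvd hsP).2 hc).symm)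
      have h3 : g = (g ^ c) ^ (Nat.gcdA c (s ^ a)) * (g ^ s ^ a) ^ (Nat.gcdB c (s ^ a)) := by
        rw [← zpow_natCast, ← zpow_natCast, ← zpow_mul, ← zpow_mul, ← zpow_add,
          ← Nat.gcd_eq_gcd_ab, hgcd]
        simp
      rw [h3]
      exact H.mul_mem (H.zpow_mem h1 _) (H.zpow_mem h2 _)
  intro g hg hcop
  exact key _ g hg rfl hcop

end Cfsg.Agent.Lib.Helper21
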