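import Mathlib
import Cfsg.Agent.S0001
import Cfsg.Agent.Lib.Helper21.Basic
import Cfsg.Agent.Lib.Helper21.Jordan
import Cfsg.Agent.Lib.Helper21.BaerSuzuki

set_option autoImplicit false

namespace Cfsg.Agent.Lib.Helper21

theorem isComplement'_subgroupOf_zpowers {G : Type*} [Group G] [Finite G] (N : Subgroup G) [N.Normal]
    (H : Subgroup G) (w : G) (hH : H = N ⊔ Subgroup.zpowers w)
    (hw : (orderOf w).Coprime (Nat.card N)) :
    Subgroup.IsComplement' (N.subgroupOf H) ((Subgroup.zpowers w).subgroupOf H) := by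
  apply Subgroup.isComplement'_of_disjoint_and_mul_eq_univ
  · have hd : Disjoint N (Subgroup.zpowers w) := by
      apply Subgroup.disjoint_of_coprime_natCard
      rw [Nat.card_zpowers]
      exact hw.symm
    rw [Subgroup.disjoint_def] at hd ⊢
    intro a ha hb
    exact Subtype.ext (hd ha hb)
  · rw [Set.eq_univ_iff_forall]
    intro a
    have ha : (a : G) ∈ N ⊔ Subgroup.zpowers w := hH ▸ a.2
    obtain ⟨n, hn, c, hc, hnc⟩ := Subgroup.mem_sup_of_normal_left.mp ha
    have hnH : n ∈ H := hH ▸ Subgroup.mem_sup_left hn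
    have hcH : c ∈ H := hH ▸ Subgroup.mem_sup_right hc
    exact ⟨⟨n, hnH⟩, hn, ⟨c, hcH⟩, hc, Subtype.ext hnc⟩

/-- Elements of order prime to `|N|` in the same coset of the solvable normal subgroup `N` are conjugate under `N`. -/
theorem exists_conj_of_coprime_coset {G : Type*} [Group G] [Finite G] (N : Subgroup G) [N.Normal]
    (hsolv : Group.IsSolvable N) (x y : G) (hxy : x⁻¹ * y ∈ N)
    (hx : (orderOf x).Coprime (Nat.card N)) (hy : (orderOf y).Coprime (Nat.card N)) :
    ∃ n ∈ N, n * x * n⁻¹ = y := by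
  set H : Subgroup G := N ⊔ Subgroup.zpowers x with hH
  have hNH : N ≤ H := le_sup_left
  have hxH : x ∈ H := Subgroup.mem_sup_right (Subgroup.mem_zpowers x)
  have hyH : y ∈ H := by
    have : y = x * (x⁻¹ * y) := by group
    rw [this]
    exact H.mul_mem hxH (hNH hxy)
  have hH2 : H = N ⊔ Subgroup.zpowers y := by
    apply le_antisymm
    · rw [hH, sup_le_iff]
      refine ⟨le_sup_left, ?_⟩
      rw [Subgroup.zpowers_le]
      have : x = y * (x⁻¹ * y)⁻¹ := by group
      rw [this]
      exact Subgroup.mul_mem _ (Subgroup.mem_sup_right (Subgroup.mem_zpowers y))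
        (Subgroup.mem_sup_left (N.inv_mem hxy))
    · rw [sup_le_iff]
      exact ⟨hNH, by rw [Subgroup.zpowers_le]; exact hyH⟩
  have c1 := isComplement'_subgroupOf_zpowers N H x hH hx
  have c2 := isComplement'_subgroupOf_zpowers N H y hH2 hy
  haveI : (N.subgroupOf H).Normal := inferInstance
  have hcardN : Nat.card (N.subgroupOf H) = Nat.card N :=
    Nat.card_congr (Subgroup.subgroupOfEquivOfLe hNH).toEquiv
  have hcop : (Nat.card (N.subgroupOf H)).Coprime (N.subgroupOf H).index := by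
    rw [c1.symm.index_eq_card, hcardN,
      Nat.card_congr (Subgroup.subgroupOfEquivOfLe (by rw [Subgroup.zpowers_le]; exact hxH)).toEquiv,
      Nat.card_zpowers]
    exact hx.symm
  have hsolv' : Group.IsSolvable (N.subgroupOf H) :=
    Group.isSolvable_of_isSolvable_injective (f := (Subgroup.subgroupOfEquivOfLe hNH).toMonoidHom)
      (Subgroup.subgroupOfEquivOfLe hNH).injective
  obtain ⟨h, hh⟩ := Cfsg.Agent.S0001.result (N.subgroupOf H) hcop (Or.inl hsolv') _ _ c1 c2
  have h1 : h * ⟨x, hxH⟩ * h⁻¹ ∈ (Subgroup.zpowers y).subgroupOf H := by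
    rw [← hh]
    exact ⟨⟨x, hxH⟩, Subgroup.mem_zpowers x, rfl⟩
  have h2 : (h : G) * x * (h : G)⁻¹ ∈ Subgroup.zpowers y := h1
  obtain ⟨n, hn, c, hc, hnc⟩ := Subgroup.mem_sup_of_normal_left.mp (hH ▸ h.2 : (h : G) ∈ N ⊔ Subgroup.zpowers x)
  have hcx : Commute c x := by
    obtain ⟨k, rfl⟩ := Subgroup.mem_zpowers_iff.mp hc
    exact (Commute.refl x).zpow_left k
  have h3 : (h : G) * x * (h : G)⁻¹ = n * x * n⁻¹ := by
    rw [← hnc, mul_inv_rev, mul_assoc n c x, hcx.eq]
    group
  rw [h3] at h2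
  refine ⟨n, hn, ?_⟩
  have hd : Disjoint N (Subgroup.zpowers y) := by
    apply Subgroup.disjoint_of_coprime_natCard
    rw [Nat.card_zpowers]
    exact hy.symm
  rw [Subgroup.disjoint_def] at hd
  have h4 : (n * x * n⁻¹)⁻¹ * y ∈ Subgroup.zpowers y :=
    Subgroup.mul_mem _ (Subgroup.inv_mem _ h2) (Subgroup.mem_zpowers y)
  have h5 : (n * x * n⁻¹)⁻¹ * y ∈ N := by
    have : (n * x * n⁻¹)⁻¹ * y = n * (x⁻¹ * n⁻¹ * x⁻¹⁻¹) * (x⁻¹ * y) := by group
    rw [this]
    exact N.mul_mem (N.mul_mem hn (‹N.Normal›.conj_mem _ (N.inv_mem hn) _)) hxy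
  have := hd h5 h4
  exact (inv_mul_eq_one.mp this)

/-- no nontrivial element of odd order is conjugate to its inverse by an inverting element -/
def NoRealOdd (G : Type*) [Group G] : Prop :=
  ∀ x g : G, Odd (orderOf x) → g * x * g⁻¹ = x⁻¹ → x = 1

theorem noRealOdd_quotient {G : Type*} [Group G] [Finite G] (N : Subgroup G) [N.Normal]
    (hN : IsPGroup 2 N) (h : NoRealOdd G) : NoRealOdd (G ⧸ N) := by
  intro xb gb hodd hinv
  obtain ⟨x₀, rfl⟩ := QuotientGroup.mk_surjective xb
  obtain ⟨g, rfl⟩ := QuotientGroup.mk_surjective gb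
  obtain ⟨u, v, huv, _, ⟨k, hu⟩, hv, huz, hvz⟩ := exists_p_part 2 x₀
  have hu1 : (QuotientGroup.mk u : G ⧸ N) = 1 := by
    have d1 : orderOf (QuotientGroup.mk u : G ⧸ N) ∣ 2 ^ k := by
      rw [← hu]
      exact orderOf_map_dvd (QuotientGroup.mk' N) u
    have d2 : orderOf (QuotientGroup.mk u : G ⧸ N) ∣ orderOf (QuotientGroup.mk x₀ : G ⧸ N) := by
      apply orderOf_dvd_of_mem_zpowers
      obtain ⟨j, rfl⟩ := Subgroup.mem_zpowers_iff.mp huz
      exact ⟨j, by simp⟩
    have hc : Nat.Coprime (2 ^ k) (orderOf (QuotientGroup.mk x₀ : G ⧸ N)) :=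
      Nat.Coprime.pow_left k (Nat.coprime_two_left.mpr hodd)
    have := Nat.eq_one_of_dvd_coprimes hc d1 d2
    exact orderOf_eq_one_iff.mp this
  have hxv : (QuotientGroup.mk x₀ : G ⧸ N) = QuotientGroup.mk v := by
    rw [← huv, QuotientGroup.mk_mul, hu1, one_mul]
  obtain ⟨n, hn⟩ := IsPGroup.iff_card.mp hN
  have hvN : (orderOf v).Coprime (Nat.card N) := by
    rw [hn]; exact Nat.Coprime.pow_right n hv
  haveI : Group.IsNilpotent N := hN.isNilpotent
  have hsolv : Group.IsSolvable N := IsNilpotent.to_isSolvable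
  have ho1 : orderOf (g * v * g⁻¹) = orderOf v := by
    have : g * v * g⁻¹ = MulAut.conj g v := rfl
    rw [this, MulEquiv.orderOf_eq]
  have hmem : (g * v * g⁻¹)⁻¹ * v⁻¹ ∈ N := by
    rw [← QuotientGroup.eq]
    rw [hxv] at hinv
    exact hinv
  obtain ⟨m, hm, hmv⟩ := exists_conj_of_coprime_coset N hsolv (g * v * g⁻¹) v⁻¹ hmem
    (by rw [ho1]; exact hvN) (by rw [orderOf_inv]; exact hvN)
  have hv1 : v = 1 := by
    apply h v (m * g) (Nat.coprime_two_right.mp hv)
    rw [← hmv]
    group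
  rw [hxv, hv1]
  rfl

theorem isPGroup_two_closure_pair {G : Type*} [Group G] [Finite G] (h : NoRealOdd G) (s t : G)
    (hs : orderOf s = 2) (ht : orderOf t = 2) : IsPGroup 2 (Subgroup.closure ({s, t} : Set G)) := by
  have hs2 : s * s = 1 := by rw [← pow_two, ← hs, pow_orderOf_eq_one]
  have ht2 : t * t = 1 := by rw [← pow_two, ← ht, pow_orderOf_eq_one]
  have hsi : s⁻¹ = s := inv_eq_of_mul_eq_one_left hs2
  have hti : t⁻¹ = t := inv_eq_of_mul_eq_one_left ht2
  set w := s * t with hw
  have hinv : s * w * s⁻¹ = w⁻¹ := by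
    rw [hw, mul_inv_rev, hsi, hti, ← mul_assoc, hs2, one_mul]
  have hinvz : ∀ j : ℤ, s * w ^ j * s⁻¹ = (w ^ j)⁻¹ := by
    intro j
    have : s * w ^ j * s⁻¹ = (s * w * s⁻¹) ^ j := (conj_zpow).symm
    rw [this, hinv, inv_zpow]
  obtain ⟨u, v, huv, _, ⟨k, hu⟩, hv, huz, hvz⟩ := exists_p_part 2 w
  have hv1 : v = 1 := by
    apply h v s (Nat.coprime_two_right.mp hv)
    obtain ⟨j, rfl⟩ := Subgroup.mem_zpowers_iff.mp hvz
    exact hinvz j
  have hwu : orderOf w = 2 ^ k := by rw [← huv, hv1, mul_one, hu]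
  have hZ : IsPGroup 2 (Subgroup.zpowers w) := isPGroup_zpowers hwu
  have hS : IsPGroup 2 (Subgroup.zpowers s) := isPGroup_zpowers (k := 1) (by rw [hs, pow_one])
  have hnorm : Subgroup.zpowers s ≤ Subgroup.normalizer ((Subgroup.zpowers w : Subgroup G) : Set G) := by
    rw [Subgroup.zpowers_le, Subgroup.mem_normalizer_iff]
    intro a
    constructor
    · intro ha
      obtain ⟨j, rfl⟩ := Subgroup.mem_zpowers_iff.mp ha
      rw [hinvz j]
      exact Subgroup.inv_mem _ (Subgroup.zpow_mem _ (Subgroup.mem_zpowers w) j)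
    · intro ha
      obtain ⟨j, hj⟩ := Subgroup.mem_zpowers_iff.mp ha
      have : a = s * w ^ j * s⁻¹ := by
        rw [hj, hsi]
        calc a = (s * s) * a * (s * s) := by rw [hs2]; simp
          _ = s * (s * a * s) * s := by group
      rw [this, hinvz j]
      exact Subgroup.inv_mem _ (Subgroup.zpow_mem _ (Subgroup.mem_zpowers w) j)
  have hsup := hS.to_sup_of_normal_right' hZ hnorm
  apply hsup.to_le
  rw [Subgroup.closure_le]
  rintro z (rfl | rfl)
  · exact Subgroup.mem_sup_left (Subgroup.mem_zpowers _)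
  · have : z = s⁻¹ * w := by rw [hw]; group
    rw [this]
    exact Subgroup.mul_mem _ (Subgroup.mem_sup_left (Subgroup.inv_mem _ (Subgroup.mem_zpowers _)))
      (Subgroup.mem_sup_right (Subgroup.mem_zpowers _))

theorem sylow_two_normal_of_noRealOdd_aux.{u} : ∀ (n : ℕ) (G : Type u) [Group G] [Finite G],
    Nat.card G = n → NoRealOdd G → ∀ P : Sylow 2 G, (P : Subgroup G).Normal := by
  intro n
  induction n using Nat.strong_induction_on with
  | _ n ih =>
    intro G _ _ hcard h P
    let K : Set G := {t | orderOf t = 2}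
    have hKn : ∀ x ∈ K, ∀ g : G, g * x * g⁻¹ ∈ K := by
      intro x hx g
      have : g * x * g⁻¹ = MulAut.conj g x := rfl
      show orderOf (g * x * g⁻¹) = 2
      rw [this, MulEquiv.orderOf_eq]
      exact hx
    have hsub := baer_suzuki_set K hKn (fun s hs t ht => isPGroup_two_closure_pair h s t hs ht) P
    set N := (P : Subgroup G).normalCore with hN
    haveI : N.Normal := Subgroup.normalCore_normal _
    have hNP : N ≤ (P : Subgroup G) := Subgroup.normalCore_le _
    by_cases hbot : N = ⊥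
    · apply sylow_normal_of_forall_mem
      rintro g ⟨k, hk⟩
      rcases Nat.eq_zero_or_pos k with rfl | hkpos
      · rw [pow_zero, orderOf_eq_one_iff] at hk
        rw [hk]; exact Subgroup.one_mem _
      · exfalso
        have ho : orderOf (g ^ (2 ^ (k - 1))) = 2 := by
          rw [orderOf_pow_of_dvd (pow_ne_zero _ two_ne_zero) (by rw [hk]; exact pow_dvd_pow 2 (Nat.sub_le k 1)), hk]
          rw [Nat.pow_div (Nat.sub_le k 1) two_pos]
          have : k - (k - 1) = 1 := by omega
          rw [this, pow_one]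
        have hmem : g ^ (2 ^ (k - 1)) ∈ N := hsub ho
        rw [hbot, Subgroup.mem_bot] at hmem
        rw [hmem, orderOf_one] at ho
        omega
    · have hlt : Nat.card (G ⧸ N) < n := by
        rw [← hcard, ← N.card_mul_index, ← Subgroup.index_eq_card]
        have h1 : 1 < Nat.card N := (Subgroup.one_lt_card_iff_ne_bot N).mpr hbot
        have h2 : 0 < N.index := Nat.pos_of_ne_zero Subgroup.index_ne_zero_of_finite
        nlinarith
      have hq := ih _ hlt (G ⧸ N) rfl (noRealOdd_quotient N (P.isPGroup'.to_le hNP) h)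
        (Sylow.mapSurjective (QuotientGroup.mk'_surjective N) P)
      rw [Sylow.coe_mapSurjective] at hq
      have := hq.comap (QuotientGroup.mk' N)
      rwa [Subgroup.comap_map_eq_self (by rw [QuotientGroup.ker_mk']; exact hNP)] at this

/-- A finite group without nontrivial real elements of odd order has a normal Sylow 2-subgroup. -/
theorem sylow_two_normal_of_noRealOdd {G : Type*} [Group G] [Finite G] (h : NoRealOdd G)
    (P : Sylow 2 G) : (P : Subgroup G).Normal :=
  sylow_two_normal_of_noRealOdd_aux _ G rfl h P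

end Cfsg.Agent.Lib.Helper21
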