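import Mathlib
import Cfsg.Agent.Lib.Helper21.RealOdd

set_option autoImplicit false

namespace Cfsg.Agent.Lib.Helper21

theorem conj_zpow_of_conj_eq_inv {G : Type*} [Group G] {x g : G} (hinv : g * x * g⁻¹ = x⁻¹) (j : ℤ) :
    g * x ^ j * g⁻¹ = (x ^ j)⁻¹ := by
  have : g * x ^ j * g⁻¹ = (g * x * g⁻¹) ^ j := (conj_zpow).symm
  rw [this, hinv, inv_zpow]

theorem conj_inv_of_conj_eq_inv {G : Type*} [Group G] {x g : G} (hinv : g * x * g⁻¹ = x⁻¹) :
    g⁻¹ * x * g⁻¹⁻¹ = x⁻¹ := by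
  have h1 : x = g⁻¹ * x⁻¹ * g := by rw [← hinv]; group
  have h2 : x⁻¹ = g⁻¹ * x * g := by
    conv_lhs => rw [h1]
    group
  rw [inv_inv, ← h2]

theorem mem_normalizer_zpowers_of_conj_eq_inv {G : Type*} [Group G] {x g : G}
    (hinv : g * x * g⁻¹ = x⁻¹) :
    g ∈ Subgroup.normalizer ((Subgroup.zpowers x : Subgroup G) : Set G) := by
  rw [Subgroup.mem_normalizer_iff]
  intro a
  constructor
  · intro ha
    obtain ⟨j, rfl⟩ := Subgroup.mem_zpowers_iff.mp ha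
    rw [conj_zpow_of_conj_eq_inv hinv j]
    exact Subgroup.inv_mem _ (Subgroup.zpow_mem _ (Subgroup.mem_zpowers x) j)
  · intro ha
    obtain ⟨j, hj⟩ := Subgroup.mem_zpowers_iff.mp ha
    have : a = g⁻¹ * x ^ j * g⁻¹⁻¹ := by rw [hj]; group
    rw [this, conj_zpow_of_conj_eq_inv (conj_inv_of_conj_eq_inv hinv) j]
    exact Subgroup.inv_mem _ (Subgroup.zpow_mem _ (Subgroup.mem_zpowers x) j)

theorem eq_one_of_odd_of_eq_inv {G : Type*} [Group G] {x : G} (hodd : Odd (orderOf x))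
    (h : x = x⁻¹) : x = 1 := by
  have h2 : x ^ 2 = 1 := by rw [pow_two]; nth_rewrite 1 [h]; group
  have hd : orderOf x ∣ 2 := orderOf_dvd_of_pow_eq_one h2
  rcases (Nat.dvd_prime Nat.prime_two).mp hd with h1 | h1
  · exact orderOf_eq_one_iff.mp h1
  · rw [h1] at hodd; exact absurd hodd (by decide)

end Cfsg.Agent.Lib.Helper21
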