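import Mathlib

/-! Tools for excluding orders of simple groups. -/

set_option autoImplicit false

namespace Cfsg.Agent.Lib.Helper21

variable {G : Type*} [Group G] [Finite G]

theorem card_sylow_of_card_eq {p : ℕ} [Fact p.Prime] (P : Sylow p G) (k m : ℕ)
    (h : Nat.card G = p ^ k * m) (hm : ¬ p ∣ m) : Nat.card (P : Subgroup G) = p ^ k := by
  have hp : p.Prime := Fact.out
  obtain ⟨j, hj⟩ := P.2.exists_card_eq
  have h1 : p ^ k ∣ Nat.card (P : Subgroup G) :=
    P.pow_dvd_card_of_pow_dvd_card (by rw [h]; exact Dvd.intro _ rfl)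
  have h2 : Nat.card (P : Subgroup G) ∣ p ^ k * m := by
    rw [← h]; exact Subgroup.card_subgroup_dvd_card _
  have hj' : Nat.card (P : Subgroup G) = p ^ j := hj
  rw [hj'] at h2 ⊢ h1
  have hcop : Nat.Coprime (p ^ j) m :=
    Nat.Coprime.pow_left j ((Nat.Prime.coprime_iff_not_dvd hp).mpr hm)
  exact Nat.dvd_antisymm (hcop.dvd_of_dvd_mul_right h2) h1

theorem conj_pow_of_conj {x z : G} {k : ℕ} (h : x * z * x⁻¹ = z ^ k) (m : ℕ) :
    x ^ m * z * (x ^ m)⁻¹ = z ^ (k ^ m) := by
  induction m with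
  | zero => simp
  | succ m ih =>
    calc x ^ (m + 1) * z * (x ^ (m + 1))⁻¹ = x * (x ^ m * z * (x ^ m)⁻¹) * x⁻¹ := by
          rw [pow_succ']; group
      _ = x * z ^ (k ^ m) * x⁻¹ := by rw [ih]
      _ = (x * z * x⁻¹) ^ (k ^ m) := by rw [conj_pow]
      _ = z ^ (k ^ (m + 1)) := by rw [h, ← pow_mul, pow_succ']

/-- an element normalizing a subgroup of prime order `p` has its `(p-1)`-st power centralizing it -/
theorem pow_mem_centralizer_of_prime_card {p : ℕ} [Fact p.Prime] (P : Subgroup G)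
    (hP : Nat.card P = p) (x : G) (hx : x ∈ Subgroup.normalizer (P : Set G)) :
    x ^ (p - 1) ∈ Subgroup.centralizer (P : Set G) := by
  have hp : p.Prime := Fact.out
  haveI : Nontrivial P := Finite.one_lt_card_iff_nontrivial.mp (by rw [hP]; exact hp.one_lt)
  obtain ⟨⟨z, hzP⟩, hz1⟩ := exists_ne (1 : P)
  have hz1' : z ≠ 1 := fun h => hz1 (Subtype.ext h)
  have hgen : ∀ y ∈ P, ∃ k : ℕ, z ^ k = y := by
    intro y hy
    have h1 : (⟨y, hy⟩ : P) ∈ Subgroup.zpowers (⟨z, hzP⟩ : P) := mem_zpowers_of_prime_card hP hz1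
    obtain ⟨k, hk⟩ := (mem_powers_iff_mem_zpowers).mpr h1
    exact ⟨k, by simpa using congrArg Subtype.val hk⟩
  have hord : orderOf z = p := by
    have h1 : orderOf z ∣ p := by
      have := orderOf_dvd_natCard (⟨z, hzP⟩ : P)
      rwa [Subgroup.orderOf_mk, hP] at this
    rcases (Nat.dvd_prime hp).mp h1 with h | h
    · exact absurd (orderOf_eq_one_iff.mp h) hz1'
    · exact h
  obtain ⟨k, hk⟩ := hgen _ ((Subgroup.mem_normalizer_iff.mp hx z).mp hzP)
  have hkp : ¬ p ∣ k := by
    intro hd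
    have h1 : z ^ k = 1 := by
      rw [← hord] at hd
      exact orderOf_dvd_iff_pow_eq_one.mp hd
    rw [h1] at hk
    apply hz1'
    have : z = x⁻¹ * (x * z * x⁻¹) * x := by group
    rw [this, ← hk]; group
  have h2 := conj_pow_of_conj hk.symm (p - 1)
  have h3 : k ^ (p - 1) ≡ 1 [MOD p] := by
    rw [← ZMod.natCast_eq_natCast_iff]
    push_cast
    apply ZMod.pow_card_sub_one_eq_one
    rwa [Ne, ZMod.natCast_eq_zero_iff]
  have h4 : z ^ (k ^ (p - 1)) = z := by
    have : z ^ (k ^ (p - 1)) = z ^ 1 := by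
      rw [pow_eq_pow_iff_modEq, hord]; exact h3
    rwa [pow_one] at this
  rw [h4] at h2
  have hcomm : Commute (x ^ (p - 1)) z := by
    show x ^ (p - 1) * z = z * x ^ (p - 1)
    calc x ^ (p - 1) * z = (x ^ (p - 1) * z * (x ^ (p - 1))⁻¹) * x ^ (p - 1) := by group
      _ = z * x ^ (p - 1) := by rw [h2]
  rw [Subgroup.mem_centralizer_iff]
  intro y hy
  obtain ⟨j, rfl⟩ := hgen y hy
  exact ((hcomm.pow_right j).eq).symm

theorem normalizer_le_centralizer_of_coprime {p : ℕ} [Fact p.Prime] (P : Subgroup G)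
    (hP : Nat.card P = p)
    (hcop : (Nat.card (Subgroup.normalizer (P : Set G))).Coprime (p - 1)) :
    Subgroup.normalizer (P : Set G) ≤ Subgroup.centralizer (P : Set G) := by
  intro x hx
  have h1 := pow_mem_centralizer_of_prime_card P hP x hx
  have h3 : orderOf x ∣ Nat.card (Subgroup.normalizer (P : Set G)) := by
    have := orderOf_dvd_natCard (⟨x, hx⟩ : Subgroup.normalizer (P : Set G))
    rwa [Subgroup.orderOf_mk] at this
  have hcop' : (orderOf x).Coprime (p - 1) := Nat.Coprime.coprime_dvd_left h3 hcop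
  have h4 : x ∈ Subgroup.zpowers (x ^ (p - 1)) := by
    obtain ⟨m, hm⟩ := exists_pow_eq_self_of_coprime hcop'.symm
    exact Subgroup.mem_zpowers_iff.mpr ⟨m, by exact_mod_cast hm⟩
  exact (Subgroup.zpowers_le.mpr h1) h4

theorem false_of_simple_of_normalizer_le_centralizer [IsSimpleGroup G] {p : ℕ} [Fact p.Prime]
    (P : Sylow p G)
    (hP : Subgroup.normalizer ((P : Subgroup G) : Set G) ≤ Subgroup.centralizer ((P : Subgroup G) : Set G))
    (h1 : 1 < Nat.card (P : Subgroup G)) (h2 : Nat.card (P : Subgroup G) < Nat.card G) : False := by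
  have hc := MonoidHom.ker_transferSylow_isComplement' P hP
  have hcard := hc.card_mul_card
  rcases (MonoidHom.normal_ker (MonoidHom.transferSylow P hP)).eq_bot_or_eq_top with h | h
  · rw [h, Subgroup.card_bot, one_mul] at hcard
    have : Nat.card (P : Subgroup G) = Nat.card G := hcard
    omega
  · rw [h, Subgroup.card_top] at hcard
    have hpos : 0 < Nat.card G := Nat.card_pos
    have h3 : Nat.card G * Nat.card (P : Subgroup G) = Nat.card G * 1 := by rw [mul_one]; exact hcard
    have := Nat.eq_of_mul_eq_mul_left hpos h3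
    omega

theorem card_sylow_ne_one_of_simple [IsSimpleGroup G] {p : ℕ} [Fact p.Prime] (P : Sylow p G)
    (h1 : 1 < Nat.card (P : Subgroup G)) (h2 : Nat.card (P : Subgroup G) < Nat.card G) :
    Nat.card (Sylow p G) ≠ 1 := by
  intro h
  haveI : Subsingleton (Sylow p G) := (Nat.card_eq_one_iff_unique.mp h).1
  rcases (P.normal_of_subsingleton).eq_bot_or_eq_top with h3 | h3
  · rw [h3, Subgroup.card_bot] at h1; omega
  · rw [h3, Subgroup.card_top] at h2; omega

theorem card_normalizer_mul_card_sylow {p : ℕ} [Fact p.Prime] (P : Sylow p G) :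
    Nat.card (Subgroup.normalizer ((P : Subgroup G) : Set G)) * Nat.card (Sylow p G) = Nat.card G := by
  have h1 := P.card_eq_index_normalizer
  have h2 := (Subgroup.normalizer ((P : Subgroup G) : Set G)).card_mul_index
  rw [← h2, h1]
  rfl

end Cfsg.Agent.Lib.Helper21
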