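import Mathlib
import Cfsg.Agent.H25.FS
import Cfsg.Agent.CharLib.L.Linear
import Cfsg.Agent.H1.Small2

/-!
# Twisting irreducible characters by characters of an elementary abelian 2-quotient (helper21)
-/

set_option autoImplicit false
set_option linter.style.haveILetI false

namespace Cfsg.Agent.Lib.Helper21

open Cfsg Cfsg.Agent.CharLib
open scoped ComplexConjugate

/-- If `F` is invariant and `n` divides `|orbit| * F` on every orbit then `n` divides `∑ F`. -/
theorem dvd_sum_of_orbits {A X : Type*} [Group A] [MulAction A X] [Fintype X] (F : X → ℤ)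
    (hF : ∀ (a : A) (x : X), F (a • x) = F x) (n : ℤ)
    (h : ∀ x, n ∣ (Nat.card (MulAction.orbit A x) : ℤ) * F x) : n ∣ ∑ x, F x := by
  classical
  letI := MulAction.orbitRel A X
  haveI : Fintype (Quotient (MulAction.orbitRel A X)) := Fintype.ofFinite _
  rw [← Finset.sum_fiberwise (s := Finset.univ)
    (g := fun x : X => (Quotient.mk (MulAction.orbitRel A X) x)) (f := F)]
  refine Finset.dvd_sum fun ω _ => ?_
  induction ω using Quotient.inductionOn with
  | h x0 =>
    have h1 : ∀ x ∈ Finset.univ.filter (fun x : X => (Quotient.mk (MulAction.orbitRel A X) x) =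
        Quotient.mk (MulAction.orbitRel A X) x0), F x = F x0 := by
      intro x hx
      rw [Finset.mem_filter] at hx
      have h2 : x ∈ MulAction.orbit A x0 := MulAction.orbitRel_apply.1 (Quotient.exact hx.2)
      obtain ⟨a, rfl⟩ := h2
      exact hF a x0
    rw [Finset.sum_congr rfl h1, Finset.sum_const, nsmul_eq_mul]
    have h3 : (Finset.univ.filter (fun x : X => (Quotient.mk (MulAction.orbitRel A X) x) =
        Quotient.mk (MulAction.orbitRel A X) x0)).card = Nat.card (MulAction.orbit A x0) := by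
      rw [Nat.card_eq_fintype_card, Fintype.card_subtype]
      congr 1
      ext x
      simp only [Finset.mem_filter, Finset.mem_univ, true_and]
      rw [Quotient.eq]
      exact MulAction.orbitRel_apply
    rw [h3]
    exact h x0

universe u

variable {G : Type u} [Group G] [Fintype G] {V : Type*} [CommGroup V]

/-- the twist of a function by a character of a quotient -/
noncomputable def twistFn (π : G →* V) (a : V →* ℂˣ) (χ : G → ℂ) : G → ℂ :=
  fun g => ((a (π g) : ℂˣ) : ℂ) * χ g

theorem val_mul_self (hsq : ∀ v : V, v * v = 1) (a : V →* ℂˣ) (v : V) :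
    ((a v : ℂˣ) : ℂ) * ((a v : ℂˣ) : ℂ) = 1 := by
  rw [← Units.val_mul, ← map_mul, hsq, map_one, Units.val_one]

theorem conj_val (hsq : ∀ v : V, v * v = 1) (a : V →* ℂˣ) (v : V) :
    conj ((a v : ℂˣ) : ℂ) = ((a v : ℂˣ) : ℂ) := by
  rcases mul_self_eq_one_iff.1 (val_mul_self hsq a v) with h | h <;> rw [h] <;> simp

theorem twistFn_irr (π : G →* V) (hsq : ∀ v : V, v * v = 1) (a : V →* ℂˣ) {χ : G → ℂ}
    (hχ : IsIrrCharacter G χ) : IsIrrCharacter G (twistFn π a χ) := by
  refine isIrrCharacter_of_norm_one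
    (isCharacter_mul (isCharacter_of_irr (isIrrCharacter_of_hom (a.comp π)))
      (isCharacter_of_irr hχ)) ?_
  rw [← classInner_irr_self hχ, classInner_def, classInner_def]
  congr 1
  refine Finset.sum_congr rfl fun g _ => ?_
  show ((a (π g) : ℂˣ) : ℂ) * χ g * conj (((a (π g) : ℂˣ) : ℂ) * χ g) = χ g * conj (χ g)
  rw [map_mul, conj_val hsq]
  calc ((a (π g) : ℂˣ) : ℂ) * χ g * (((a (π g) : ℂˣ) : ℂ) * conj (χ g))
      = (((a (π g) : ℂˣ) : ℂ) * ((a (π g) : ℂˣ) : ℂ)) * (χ g * conj (χ g)) := by ring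
    _ = χ g * conj (χ g) := by rw [val_mul_self hsq, one_mul]

/-- The action of the dual of `V` on the irreducible characters of `G`. -/
@[instance_reducible]
noncomputable def twistAction (π : G →* V) (hsq : ∀ v : V, v * v = 1) :
    MulAction (V →* ℂˣ) (IrrCharacter G) where
  smul a χ := ⟨twistFn π a χ.1, twistFn_irr π hsq a χ.2⟩
  one_smul χ := by
    apply Subtype.ext
    funext g
    show ((((1 : V →* ℂˣ) (π g) : ℂˣ)) : ℂ) * χ.1 g = χ.1 g
    simp
  mul_smul a b χ := by
    apply Subtype.ext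
    funext g
    show ((((a * b : V →* ℂˣ) (π g) : ℂˣ)) : ℂ) * χ.1 g =
      ((a (π g) : ℂˣ) : ℂ) * (((b (π g) : ℂˣ) : ℂ) * χ.1 g)
    simp [mul_assoc]

theorem twist_smul_apply (π : G →* V) (hsq : ∀ v : V, v * v = 1) (a : V →* ℂˣ)
    (χ : IrrCharacter G) (g : G) :
    ((letI := twistAction π hsq; a • χ : IrrCharacter G) : G → ℂ) g =
      ((a (π g) : ℂˣ) : ℂ) * χ.1 g := rfl

theorem card_stabilizer_le (π : G →* V) (hπ : Function.Surjective π)
    (hsq : ∀ v : V, v * v = 1) [Finite (V →* ℂˣ)] (χ : IrrCharacter G) (n : ℕ)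
    (hn : χ.1 1 = n) :
    letI := twistAction π hsq
    Nat.card (MulAction.stabilizer (V →* ℂˣ) χ) ≤ n ^ 2 := by
  classical
  letI := twistAction π hsq
  set θ : G → ℂ := (χ.1) * (fun g => conj (χ.1 g)) with hθdef
  have hθ : IsCharacter G θ :=
    isCharacter_mul (isCharacter_of_irr χ.2) (isCharacter_conj (isCharacter_of_irr χ.2))
  have hexp := congrFun (classFunction_eq_sum (isClassFunction_of_char hθ)) 1
  have hm : ∀ ψ : IrrCharacter G, ∃ m : ℕ, classInner θ ψ.1 = m := fun ψ =>
    classInner_char_nat hθ (isCharacter_of_irr ψ.2)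
  choose m hm using hm
  have hd : ∀ ψ : IrrCharacter G, ∃ d : ℕ, 0 < d ∧ ψ.1 1 = d := fun ψ => irr_apply_one_nat ψ
  choose d hd0 hd using hd
  have hsum : n ^ 2 = ∑ ψ : IrrCharacter G, m ψ * d ψ := by
    have : ((n ^ 2 : ℕ) : ℂ) = ((∑ ψ : IrrCharacter G, m ψ * d ψ : ℕ) : ℂ) := by
      rw [Finset.sum_apply] at hexp
      push_cast
      rw [sq]
      calc (n : ℂ) * n = θ 1 := by
            rw [hθdef, Pi.mul_apply, hn]; simp
        _ = ∑ ψ : IrrCharacter G, (m ψ : ℂ) * (d ψ : ℂ) := by
            rw [hexp]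
            refine Finset.sum_congr rfl fun ψ _ => ?_
            rw [Pi.smul_apply, smul_eq_mul, hm, hd]
    exact_mod_cast this
  let ι : MulAction.stabilizer (V →* ℂˣ) χ → IrrCharacter G := fun a =>
    ⟨fun g => ((a.1.comp π) g : ℂ), isIrrCharacter_of_hom (a.1.comp π)⟩
  have hι : Function.Injective ι := by
    intro a b hab
    apply Subtype.ext
    ext v
    obtain ⟨g, rfl⟩ := hπ v
    exact congrFun (congrArg Subtype.val hab) g
  have hone : ∀ a, 1 ≤ m (ι a) * d (ι a) := by
    intro a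
    have h1 : m (ι a) = 1 := by
      have h2 : classInner θ (ι a).1 = 1 := by
        rw [← classInner_irr_self χ.2, classInner_def, classInner_def]
        congr 1
        refine Finset.sum_congr rfl fun g _ => ?_
        have h3 : ((a.1 (π g) : ℂˣ) : ℂ) * χ.1 g = χ.1 g := by
          have := congrFun (congrArg Subtype.val (MulAction.mem_stabilizer_iff.1 a.2)) g
          exact this
        show χ.1 g * conj (χ.1 g) * conj ((a.1 (π g) : ℂˣ) : ℂ) = χ.1 g * conj (χ.1 g)
        rw [mul_assoc, ← map_mul, mul_comm (χ.1 g) ((a.1 (π g) : ℂˣ) : ℂ), h3]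
      rw [hm] at h2
      exact_mod_cast h2
    rw [h1, one_mul]
    exact hd0 _
  haveI : Fintype (MulAction.stabilizer (V →* ℂˣ) χ) := Fintype.ofFinite _
  rw [hsum, Nat.card_eq_fintype_card, ← Finset.card_univ,
    ← Finset.card_image_of_injective _ hι, Finset.card_eq_sum_ones]
  calc ∑ _ψ ∈ Finset.univ.image ι, 1 ≤ ∑ ψ ∈ Finset.univ.image ι, m ψ * d ψ := by
        refine Finset.sum_le_sum fun ψ hψ => ?_
        obtain ⟨a, -, rfl⟩ := Finset.mem_image.1 hψ
        exact hone a
    _ ≤ ∑ ψ : IrrCharacter G, m ψ * d ψ :=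
        Finset.sum_le_sum_of_subset (Finset.subset_univ _)

end Cfsg.Agent.Lib.Helper21
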